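import Mathlib
import Cfsg.Agent.Lib.LocEven.Basic
import Cfsg.Agent.Lib.Invol.Dihedral

/-! A point-line geometry on elementary abelian subgroups (points) and involutions (lines) that is locally the
polar space of `O₈⁺(2)` (helper80). -/

set_option autoImplicit false

namespace H80.O8

open Subgroup H68

variable {G : Type*} [Group G]

/-- the plane axiom at a flag -/
def Pf (E : Subgroup G) (x : G) (r : Subgroup G) : Prop :=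
  (∃ y ∈ E, y ∈ r ∧ y ≠ 1 ∧ y ≠ x) ∧ ∀ a ∈ E, ∀ b ∈ E, a ∈ r ∨ b ∈ r ∨ a * b ∈ r

/-- a plane -/
def Pl (D : Set G) (P : Set (Subgroup G)) (E : Subgroup G) : Prop :=
  ∀ x ∈ E, x ≠ 1 → x ∈ D ∧ (∀ r ∈ P, x ∈ r → Pf E x r) ∧ ∀ y ∈ E, ∃ r ∈ P, x ∈ r ∧ y ∈ r

/-- the local axioms at a flag -/
structure Loc (D : Set G) (Qd : G → Subgroup G) (P : Set (Subgroup G)) (d : G) (p : Subgroup G) : Prop where
  three : ∃ b ∈ P, ∃ c ∈ P, p ≠ b ∧ p ≠ c ∧ b ≠ c ∧ d ∈ b ∧ d ∈ c ∧ ∀ r ∈ P, d ∈ r → r = p ∨ r = b ∨ r = c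
  meet : ∀ q ∈ P, d ∈ q → p ≠ q → ∀ x ∈ p, x ∈ q → x = 1 ∨ x = d
  fix : ∀ x ∈ Qd d, cj x p = p
  swap : ∀ q ∈ P, d ∈ q → p ≠ q → ∀ x ∈ p, cj x q = q → x ∈ Qd d
  half : ∀ a ∈ p, ∀ b ∈ p, a ∈ Qd d ∨ b ∈ Qd d ∨ a * b ∈ Qd d
  inQ : ∀ f ∈ D, f ∈ Qd d → f ≠ d → f * d ∈ D
  outQ : ∀ f ∈ p, f ∉ Qd d → (f ∈ D ↔ f * d ∉ D)
  perp : ∃ s ∈ D, s ∈ p ∧ s ∈ Qd d ∧ s ≠ d
  out : ∃ y ∈ D, y ∈ p ∧ y ∉ Qd d
  five : ∀ b ∈ p, b ∈ Qd d → b ∉ D → b ≠ 1 → ∃ s ∈ D, s ∈ p ∧ s ∈ Qd d ∧ s ≠ d ∧ s * b ∉ D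
  six : ∀ b ∈ p, b ∈ Qd d → b ∉ D → b ≠ 1 → ∃ s ∈ D, s ∈ p ∧ s * b ∈ D
  plane : ∀ e ∈ D, e ∈ p → e ∈ Qd d → e ≠ d → ∃ E, d ∈ E ∧ e ∈ E ∧ Pl D P E

structure Geo (D : Set G) (Qd : G → Subgroup G) (P : Set (Subgroup G)) : Prop where
  Dc : ∀ d ∈ D, ∀ g, g * d * g⁻¹ ∈ D
  Pc : ∀ p ∈ P, ∀ g, cj g p ∈ P
  Qc : ∀ g d, Qd (g * d * g⁻¹) = cj g (Qd d)
  ne1 : 1 ∉ D
  sq : ∀ p ∈ P, ∀ x ∈ p, x * x = 1
  self : ∀ d ∈ D, d ∈ Qd d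
  symm : ∀ d ∈ D, ∀ e ∈ D, e ∈ Qd d → d ∈ Qd e
  on : ∀ d ∈ D, ∃ p ∈ P, d ∈ p
  loc : ∀ d ∈ D, ∀ p ∈ P, d ∈ p → Loc D Qd P d p
  cD : ∀ p ∈ P, (D ∩ p).ncard = 35
  cP : ∀ p ∈ P, Nat.card p = 64

/-- collinearity -/
def col (D : Set G) (p q : Subgroup G) : Prop := ∃ d ∈ D, d ∈ p ∧ d ∈ q

theorem col.symm {D : Set G} {p q : Subgroup G} : col D p q → col D q p := fun ⟨d, h, a, b⟩ => ⟨d, h, b, a⟩

/-- connectedness -/
def Reach (D : Set G) (P : Set (Subgroup G)) : Subgroup G → Subgroup G → Prop :=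
  Relation.ReflTransGen fun p q => q ∈ P ∧ col D p q

theorem comm_of_sq {p : Subgroup G} (h : ∀ x ∈ p, x * x = 1) {a b : G} (ha : a ∈ p) (hb : b ∈ p) : a * b = b * a := by
  rw [← inv_eq_of_mul_eq_one_right (h _ (mul_mem ha hb)), mul_inv_rev, inv_eq_of_mul_eq_one_right (h a ha),
    inv_eq_of_mul_eq_one_right (h b hb)]

theorem mem_cj_of_comm {x d : G} {p : Subgroup G} (h : x * d = d * x) (hd : d ∈ p) : d ∈ cj x p := by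
  rwa [mem_cj, mul_assoc, ← h, inv_mul_cancel_left]

namespace Geo

variable {D : Set G} {Qd : G → Subgroup G} {P : Set (Subgroup G)} (Γ : Geo D Qd P)
include Γ

theorem comm {p : Subgroup G} (hp : p ∈ P) {a b : G} (ha : a ∈ p) (hb : b ∈ p) : a * b = b * a :=
  comm_of_sq (Γ.sq p hp) ha hb

theorem ne {d : G} (h : d ∈ D) : d ≠ 1 := fun e => Γ.ne1 (e ▸ h)

theorem Dc' {d g : G} : g * d * g⁻¹ ∈ D ↔ d ∈ D :=
  ⟨fun h => by simpa [mul_assoc] using Γ.Dc _ h g⁻¹, fun h => Γ.Dc _ h g⟩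

theorem exD {p : Subgroup G} (hp : p ∈ P) : ∃ d ∈ D, d ∈ p :=
  Set.nonempty_of_ncard_ne_zero (s := D ∩ p) (by rw [Γ.cD p hp]; norm_num)

theorem col_self {p : Subgroup G} (hp : p ∈ P) : col D p p := (Γ.exD hp).imp fun _ h => ⟨h.1, h.2, h.2⟩

theorem col_cj {p q : Subgroup G} (g : G) : col D (cj g p) (cj g q) ↔ col D p q :=
  ⟨fun ⟨d, h, a, b⟩ => ⟨_, by simpa using Γ.Dc d h g⁻¹, mem_cj.1 a, mem_cj.1 b⟩,
    fun ⟨d, h, a, b⟩ => ⟨_, Γ.Dc d h g, conj_mem_cj.2 a, conj_mem_cj.2 b⟩⟩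

theorem line_eq {p q : Subgroup G} (hp : p ∈ P) (hq : q ∈ P) (n : p ≠ q) {d e : G} (hd : d ∈ D) (he : e ∈ D)
    (dp : d ∈ p) (dq : d ∈ q) (ep : e ∈ p) (eq : e ∈ q) : e = d :=
  ((Γ.loc d hd p hp dp).meet q hq dq n e ep eq).resolve_left (Γ.ne he)

theorem L4 {m p q : Subgroup G} (hm : m ∈ P) (hp : p ∈ P) (hq : q ∈ P) {d e : G} (hd : d ∈ D) (he : e ∈ D)
    (dm : d ∈ m) (dp : d ∈ p) (em : e ∈ m) (eq : e ∈ q) (n1 : m ≠ p) (n2 : m ≠ q) (c : col D p q) : e ∈ Qd d := by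
  by_contra h
  obtain ⟨f, hf, fp, fq⟩ := c
  have n : p ≠ cj e p := fun k => h ((Γ.loc d hd m hm dm).swap p hp dp n1 e em k.symm)
  obtain rfl := Γ.line_eq hp (Γ.Pc p hp e) n hd hf dp (mem_cj_of_comm (Γ.comm hm em dm) dp) fp
    (mem_cj_of_comm (Γ.comm hq eq fq) fp)
  obtain rfl := Γ.line_eq hm hq n2 hd he dm fq em eq
  exact h (Γ.self _ hd)

theorem L3 {m p q : Subgroup G} (hm : m ∈ P) (hp : p ∈ P) (hq : q ∈ P) {d e : G} (hd : d ∈ D) (he : e ∈ D)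
    (dm : d ∈ m) (dp : d ∈ p) (em : e ∈ m) (eq : e ∈ q) (h : e ∈ Qd d) : col D p q := by
  by_cases n : e = d
  · exact ⟨d, hd, dp, n ▸ eq⟩
  obtain ⟨E, dE, eE, hE⟩ := (Γ.loc d hd m hm dm).plane e he em h n
  obtain ⟨y, yE, yq, y1, ye⟩ := ((hE e eE (Γ.ne he)).2.1 q hq eq).1
  rcases ((hE d dE (Γ.ne hd)).2.1 p hp dp).2 e eE y yE with k | k | k
  · exact ⟨e, he, k, eq⟩
  · exact ⟨y, (hE y yE y1).1, k, yq⟩
  · refine ⟨_, (hE _ (mul_mem eE yE) fun h => ye ?_).1, k, mul_mem eq yq⟩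
    rw [← mul_one y, ← Γ.sq q hq e eq, ← mul_assoc, Γ.comm hq yq eq, h, one_mul]

theorem gamma {p a b c : Subgroup G} (hp : p ∈ P) (ha : a ∈ P) (hb : b ∈ P) (hc : c ∈ P) {d : G} (hd : d ∈ D)
    (da : d ∈ a) (db : d ∈ b) (dc : d ∈ c) (n : a ≠ b) (h1 : col D p a) (h2 : col D p b) : col D p c := by
  by_cases e : a = p
  · exact ⟨d, hd, e ▸ da, dc⟩
  obtain ⟨f, hf, fp, fa⟩ := h1
  exact Γ.L3 ha hp hc hf hd fa fp da dc (Γ.L4 ha hp hb hf hd fa fp da db e n h2)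

theorem step {p q m : Subgroup G} (hp : p ∈ P) (hq : q ∈ P) (hm : m ∈ P) {d e : G} (hd : d ∈ D) (he : e ∈ D)
    (dq : d ∈ q) (eq : e ∈ q) (h : e ∈ Qd d) (dm : d ∈ m) (c : col D p m) : ∃ r ∈ P, e ∈ r ∧ col D p r := by
  by_cases n : e = d
  · exact ⟨m, hm, n ▸ dm, c⟩
  obtain ⟨E, dE, eE, hE⟩ := (Γ.loc d hd q hq dq).plane e he eq h n
  obtain ⟨k, hk, kp, km⟩ := c
  obtain ⟨y, yE, ym, y1, yd⟩ := ((hE d dE (Γ.ne hd)).2.1 m hm dm).1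
  obtain ⟨l, lE, lm, l1, lk⟩ : ∃ l ∈ E, l ∈ m ∧ l ≠ 1 ∧ l ∈ Qd k := by
    rcases (Γ.loc k hk m hm km).half d dm y ym with t | t | t
    · exact ⟨d, dE, dm, Γ.ne hd, t⟩
    · exact ⟨y, yE, ym, y1, t⟩
    · refine ⟨_, mul_mem dE yE, mul_mem dm ym, fun h => yd ?_, t⟩
      rw [← mul_one y, ← Γ.sq m hm d dm, ← mul_assoc, Γ.comm hm ym dm, h, one_mul]
  obtain ⟨r, hr, er, lr⟩ := (hE e eE (Γ.ne he)).2.2 l lE
  exact ⟨r, hr, er, Γ.L3 hm hp hr hk (hE l lE l1).1 km kp lm lr lk⟩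

theorem conn {p : Subgroup G} (hp : p ∈ P) {d e : G} (hd : d ∈ D) (he : e ∈ D) (dp : d ∈ p) (ep : e ∈ p) :
    ∃ f ∈ D, f ∈ p ∧ f ∈ Qd d ∧ e ∈ Qd f := by
  obtain ⟨s, hs, sp, sq, n⟩ := (Γ.loc d hd p hp dp).perp
  have h' := (Γ.loc d hd p hp dp).inQ s hs sq n
  rcases (Γ.loc e he p hp ep).half s sp d dp with t | t | t
  · exact ⟨s, hs, sp, sq, Γ.symm e he s hs t⟩
  · exact ⟨d, hd, dp, Γ.self d hd, Γ.symm e he d hd t⟩
  · exact ⟨_, h', mul_mem sp dp, mul_mem sq (Γ.self d hd), Γ.symm e he _ h' t⟩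

theorem ex_col {p q : Subgroup G} (hp : p ∈ P) (h : Reach D P p q) :
    q ∈ P ∧ ∀ e ∈ D, e ∈ q → ∃ r ∈ P, e ∈ r ∧ col D p r := by
  induction h with
  | refl => exact ⟨hp, fun e he ep => ⟨p, hp, ep, Γ.col_self hp⟩⟩
  | tail _ h ih =>
    obtain ⟨hq, d, hd, d1, d2⟩ := h
    refine ⟨hq, fun e he eq => ?_⟩
    obtain ⟨m, hm, dm, c⟩ := ih.2 d hd d1
    obtain ⟨f, hf, fq, f1, f2⟩ := Γ.conn hq hd he d2 eq
    obtain ⟨m', hm', fm, c'⟩ := Γ.step hp hq hm hd hf d2 fq f1 dm c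
    exact Γ.step hp hq hm' hf he fq eq f2 fm c'

theorem reach_symm {p q : Subgroup G} (hp : p ∈ P) (h : Reach D P p q) : Reach D P q p := by
  induction h with
  | refl => exact .refl
  | tail h1 h ih => exact .head ⟨(Γ.ex_col hp h1).1, h.2.symm⟩ ih

theorem reach_cj {p q : Subgroup G} (g : G) (h : Reach D P p q) : Reach D P (cj g p) (cj g q) := by
  induction h with
  | refl => exact .refl
  | tail _ h ih => exact .tail ih ⟨Γ.Pc _ h.1 g, (Γ.col_cj g).2 h.2⟩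

theorem nondeg {p : Subgroup G} (hp : p ∈ P) {x : G} (hx : x ∈ p) (h : ∀ d ∈ D, d ∈ p → x ∈ Qd d) : x = 1 := by
  by_contra n
  by_cases hD : x ∈ D
  · obtain ⟨y, hy, yp, yq⟩ := (Γ.loc x hD p hp hx).out
    exact yq (Γ.symm y hy x hD (h y hy yp))
  obtain ⟨d, hd, dp⟩ := Γ.exD hp
  obtain ⟨s, hs, sp, hb⟩ := (Γ.loc d hd p hp dp).six x hx (h d hd dp) hD n
  have := (Γ.loc s hs p hp sp).inQ _ hb (mul_mem (Γ.self s hs) (h s hs sp)) (by simpa using n)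
  rw [Γ.comm hp sp hx, mul_assoc, Γ.sq p hp s sp, mul_one] at this
  exact hD this

theorem regular {p x : Subgroup G} (hp : p ∈ P) (h : Reach D P x p) (hx : x ∈ P) (n : ¬col D x p) {v : G}
    (hv : v ∈ p) (e : cj v x = x) : v = 1 :=
  Γ.nondeg hp hv fun d hd dp => by
    obtain ⟨m, hm, dm, c⟩ := (Γ.ex_col hx h).2 d hd dp
    refine (Γ.loc d hd p hp dp).swap m hm dm (fun k => n (k ▸ c)) v hv (by_contra fun k => n ?_)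
    exact Γ.gamma hx (Γ.Pc m hm v) hm hp hd (mem_cj_of_comm (Γ.comm hp hv dp) dm) dm dp k
      (e ▸ (Γ.col_cj v).2 c) c

theorem eq_of_mem {p q : Subgroup G} (hp : p ∈ P) (h : Reach D P p q) {b : G} (bp : b ∈ p) (bq : b ∈ q) (b1 : b ≠ 1)
    (bD : b ∉ D) : q = p := by
  by_contra n
  have hq := (Γ.ex_col hp h).1
  by_cases c : col D p q
  · obtain ⟨d, hd, dp, dq⟩ := c
    rcases (Γ.loc d hd q hq dq).meet p hp dp n b bq bp with e | e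
    exacts [b1 e, bD (e ▸ hd)]
  · exact b1 (Γ.regular hq h hp c bq (cj_eq_of_mem bp))

theorem exists_perp {p F : Subgroup G} (hp : p ∈ P) (hF : F ≤ p) (hD : ∀ f ∈ F, f ∉ D) :
    ∃ d ∈ D, d ∈ p ∧ F ≤ Qd d := by
  have key : ∀ d ∈ D, d ∈ p → ∀ f ∈ F, f * d ∉ D → f ∈ Qd d := fun d hd dp f hf h => by_contra fun n =>
    hD f hf (((Γ.loc d hd p hp dp).outQ f (hF hf) n).2 h)
  have key' : ∀ d ∈ D, d ∈ p → ∀ f ∈ F, f ≠ 1 → f * d ∈ D → f ∉ Qd d := fun d hd dp f hf f1 h n => by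
    have := (Γ.loc d hd p hp dp).inQ _ h (mul_mem n (Γ.self d hd)) (by simpa using f1)
    rw [mul_assoc, Γ.sq p hp d dp, mul_one] at this
    exact hD f hf this
  obtain ⟨z, hz, zp⟩ := Γ.exD hp
  have L := Γ.loc z hz p hp zp
  by_cases h : F ≤ Qd z
  · exact ⟨z, hz, zp, h⟩
  obtain ⟨f, hf, fz⟩ := SetLike.not_le_iff_exists.1 h
  have out : ∀ f ∈ F, f ∉ Qd z → f * z ∈ D := fun f hf fz => by_contra fun n => fz (key z hz zp f hf n)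
  have he := out f hf fz
  have ep := mul_mem (hF hf) zp
  have k1 : ∀ b ∈ F, b ∈ Qd z → b ≠ 1 → b ∉ Qd (f * z) := fun b hb bz b1 => key' _ he ep b hb b1 (by
    rw [← mul_assoc]
    exact out _ (mul_mem hb hf) fun n => fz ((mul_mem_cancel_left bz).1 n))
  obtain ⟨s, hs, sp, sz, n, hb⟩ : ∃ s ∈ D, s ∈ p ∧ s ∈ Qd z ∧ s ≠ z ∧ ∀ b ∈ F, b ∈ Qd z → b ≠ 1 → s * b ∉ D := by
    by_cases h : ∃ b ∈ F, b ∈ Qd z ∧ b ≠ 1
    · obtain ⟨b, hb, bz, b1⟩ := h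
      obtain ⟨s, hs, sp, sz, n, h⟩ := L.five b (hF hb) bz (hD b hb) b1
      refine ⟨s, hs, sp, sz, n, fun c hc cz c1 => ?_⟩
      rcases (Γ.loc _ he p hp ep).half b (hF hb) c (hF hc) with t | t | t
      · exact absurd t (k1 b hb bz b1)
      · exact absurd t (k1 c hc cz c1)
      · have : b * c = 1 := by_contra fun n => k1 _ (mul_mem hb hc) (mul_mem bz cz) n t
        rwa [← mul_left_cancel (this.symm ▸ Γ.sq p hp b (hF hb) : b * b = b * c)]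
    · obtain ⟨s, hs, sp, sz, n⟩ := L.perp
      exact ⟨s, hs, sp, sz, n, fun b h1 h2 h3 => absurd ⟨b, h1, h2, h3⟩ h⟩
  have hs' := L.inQ s hs sz n
  have fin : ∀ d ∈ D, d ∈ p → f ∈ Qd d → (∀ b ∈ F, b ∈ Qd z → b ≠ 1 → b * d ∉ D) → F ≤ Qd d :=
    fun d hd dp fd h => by
      have k : ∀ b ∈ F, b ∈ Qd z → b ∈ Qd d := fun b hb bz => by
        by_cases b1 : b = 1
        · exact b1 ▸ one_mem _
        · exact key d hd dp b hb (h b hb bz b1)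
      intro c hc
      rcases L.half c (hF hc) f (hF hf) with t | t | t
      · exact k c hc t
      · exact absurd t fz
      · exact (mul_mem_cancel_right fd).1 (k _ (mul_mem hc hf) t)
  have o := L.outQ _ (mul_mem (hF hf) sp) fun t => fz ((mul_mem_cancel_right sz).1 t)
  by_cases t : f * s ∈ D
  · refine ⟨_, hs', mul_mem sp zp, fin _ hs' (mul_mem sp zp) (key _ hs' (mul_mem sp zp) f hf ?_) fun b h1 h2 h3 h4 => ?_⟩
    · rw [← mul_assoc]; exact o.1 t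
    · have := L.inQ _ h4 (mul_mem h2 (mul_mem sz (Γ.self z hz))) fun e => hD b h1 (by
        rw [← mul_assoc, mul_eq_right] at e
        rwa [eq_inv_of_mul_eq_one_left e, inv_eq_of_mul_eq_one_right (Γ.sq p hp s sp)])
      rw [mul_assoc, mul_assoc, Γ.sq p hp z zp, mul_one, Γ.comm hp (hF h1) sp] at this
      exact hb b h1 h2 h3 this
  · exact ⟨s, hs, sp, fin s hs sp (key s hs sp f hf t) fun b h1 h2 h3 => Γ.comm hp (hF h1) sp ▸ hb b h1 h2 h3⟩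

end Geo

end H80.O8
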