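import Mathlib
import Cfsg.Agent.Lib.O8C.Sim
import Cfsg.Agent.Lib.O8C.Emb
import Cfsg.Agent.Lib.SE42.Basic
import Cfsg.Agent.Lib.Cover.OmegaAux
import Cfsg.Agent.S0293
import Cfsg.Agent.S1175

/-! Recognition of `Ω₈⁺(2)` from the involution centraliser `2^{1+8}.(S₃ × S₃ × S₃)` (helper80). -/

set_option autoImplicit false

namespace H80.O8

open Subgroup H68 H95 Cfsg

universe u

variable {G : Type u} [Group G] [Finite G] {z : G} {Lf : G → G3 → Prop}

theorem card_omega : Nat.card (Omega (ZMod 2) (quadFormPlus 4 (ZMod 2))) = 174182400 := by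
  have := Cfsg.Agent.S0293.result (ZMod.card 2) 4 le_rfl
  rw [Nat.card_congr (H10.quotCenterEquivOfBot (H19.Cov.center_omega_plus rfl (by norm_num))).toEquiv,
    show Nat.gcd 4 (2 ^ 4 - 1) = 1 by norm_num, one_mul] at this
  exact this.trans (by decide +kernel)

theorem Hyp.M0_eq (H : Hyp z Lf) : M0 z = ⊤ := by
  by_contra n
  have := H.simple
  obtain ⟨s, I, x, c, y, F⟩ := H.exists_fx
  obtain ⟨S, QS, hS⟩ := H92.Smith.exists_sylow H.L
  obtain ⟨K, hK⟩ := Cfsg.Agent.S1175.result (M0 z) n z H.L.orderOf_eq (H.HM rfl) ⟨S, QS H.L.mem, hS⟩ (fun _ => H.h2)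
    fun g h k => H.h3 ⟨g, rfl⟩ h.symm.eq k
  obtain ⟨g, e⟩ := isConj_iff.1 (H42.SE.isConj hK H.L.orderOf_eq (orderOf_eq_two_of (F.Vsq (mul_mem F.cV F.sV))
    fun e => absurd (F.unq (F.add F.Ic F.Is) (e ▸ F.I1)) (by decide)))
  exact F.csD ⟨g, e.symm⟩

theorem Hyp.recog (H : Hyp z Lf) : Nonempty (G ≃* Omega (ZMod 2) (quadFormPlus 4 (ZMod 2))) := by
  have := H.simple
  have Γ := H.geo
  obtain ⟨s, I, x, c, y, F⟩ := H.exists_fx
  have hc : ∀ p ∈ PP z Lf, ∀ q ∈ PP z Lf, Reach (Cl z) (PP z Lf) p q := by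
    rintro _ ⟨g, rfl⟩ _ ⟨k, rfl⟩
    have := Γ.reach_cj g (H.reach (k := g⁻¹ * k) (H.M0_eq ▸ mem_top _))
    rwa [← cj_mul, mul_inv_cancel_left] at this
  obtain ⟨φ, hφ⟩ := Γ.exists_hom hc VV_mem
  have inj : Function.Injective φ := φ.ker_eq_bot_iff.1 ((φ.normal_ker.eq_bot_or_eq_top).resolve_right fun e => by
    obtain ⟨a, l⟩ := H.surj (c3 1, 1, 1)
    exact absurd ((F.cj_V l).1 (hφ a (MonoidHom.mem_ker.1 (e ▸ mem_top a)) _ VV_mem)) (by decide))
  have pf : commutator G = ⊤ := (inferInstance : (commutator G).Normal).eq_bot_or_eq_top.resolve_left fun e => by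
    obtain ⟨a, -, b, -, k⟩ := H.L.exists_commutator
    exact H.L.ne_one (k ▸ mem_bot.1 (e ▸ commutator_mem_commutator (mem_top a) (mem_top b)))
  have le : ∀ g, φ g ∈ Omega (ZMod 2) (quadFormPlus 4 (ZMod 2)) := fun g =>
    commutator_mono le_top le_top (map_commutator ⊤ ⊤ φ ▸ mem_map_of_mem φ (pf.ge (mem_top g)))
  have c1 := (MulAction.stabilizer (ConjAct G) z).index_mul_card
  rw [MulAction.index_stabilizer, ← nat_card_centralizer_nat_card_stabilizer, H.card_cent,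
    show MulAction.orbit (ConjAct G) z = Cl z from Set.ext fun _ => exists_congr fun _ => eq_comm,
    show Nat.card (ConjAct G) = Nat.card G from rfl] at c1
  have c2 := Γ.card_lines
  have c3 := Γ.card_pts hc VV_mem
  have : Finite (Omega (ZMod 2) (quadFormPlus 4 (ZMod 2))) := Nat.finite_of_card_ne_zero (by rw [card_omega]; norm_num)
  have i : Function.Injective (φ.codRestrict _ le) := fun a b e => inj (congrArg Subtype.val e)
  exact ⟨.ofBijective _ (i.bijective_of_nat_card_le (by rw [card_omega]; omega))⟩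

end H80.O8
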