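import Mathlib

/-! The module `2 ⊗ 2 ⊗ 2` for `S₃ × S₃ × S₃` (helper80). -/

set_option autoImplicit false

namespace H80.O8

abbrev W2 := ZMod 2 × ZMod 2
abbrev M8 := (W2 × W2) × (W2 × W2)
abbrev S3 := Equiv.Perm (Fin 3)
abbrev G3 := S3 × S3 × S3
abbrev X3 := Fin 3 × Fin 3 × Fin 3

instance decM8 : DecidableEq M8 := inferInstance
instance finM8 : Fintype M8 := inferInstance
instance decG3 : DecidableEq G3 := inferInstance
instance finG3 : Fintype G3 := inferInstance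

def cc : Fin 3 → ZMod 2 := ![1, 0, 1]
def dd : Fin 3 → ZMod 2 := ![0, 1, 1]

def tw {N : Type*} [AddCommGroup N] [Module (ZMod 2) N] (γ : S3) (x : N × N) : N × N :=
  (cc (γ 0) • x.1 + cc (γ 1) • x.2, dd (γ 0) • x.1 + dd (γ 1) • x.2)

def act (γ : G3) (x : M8) : M8 :=
  tw γ.1 (tw γ.2.1 (tw γ.2.2 x.1.1, tw γ.2.2 x.1.2), tw γ.2.1 (tw γ.2.2 x.2.1, tw γ.2.2 x.2.2))

def ten {N : Type*} [AddCommGroup N] [Module (ZMod 2) N] (i : Fin 3) (x : N) : N × N := (cc i • x, dd i • x)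

/-- pure tensors -/
def P0 (x : X3) : M8 := ten x.1 (ten x.2.1 (ten x.2.2 1))

def sm (γ : G3) (x : X3) : X3 := (γ.1 x.1, γ.2.1 x.2.1, γ.2.2 x.2.2)

def q0 (x : M8) : ZMod 2 := x.1.1.1 * x.2.2.2 + x.1.1.2 * x.2.2.1 + x.1.2.1 * x.2.1.2 + x.1.2.2 * x.2.1.1

def B0 : M8 →+ M8 →+ ZMod 2 := AddMonoidHom.mk' (fun x => AddMonoidHom.mk' (fun y =>
    x.1.1.1 * y.2.2.2 + x.1.1.2 * y.2.2.1 + x.1.2.1 * y.2.1.2 + x.1.2.2 * y.2.1.1 +
    (y.1.1.1 * x.2.2.2 + y.1.1.2 * x.2.2.1 + y.1.2.1 * x.2.1.2 + y.1.2.2 * x.2.1.1))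
    fun _ _ => by simp only [Prod.fst_add, Prod.snd_add]; ring)
  fun _ _ => AddMonoidHom.ext fun _ => by
    simp only [Prod.fst_add, Prod.snd_add, AddMonoidHom.mk'_apply, AddMonoidHom.add_apply]; ring

theorem q0_add (x y : M8) : q0 (x + y) = q0 x + q0 y + B0 x y := by
  simp only [q0, B0, Prod.fst_add, Prod.snd_add, AddMonoidHom.mk'_apply]; ring

theorem tw_add {N : Type*} [AddCommGroup N] [Module (ZMod 2) N] (γ : S3) (x y : N × N) :
    tw γ (x + y) = tw γ x + tw γ y := by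
  simp only [tw, Prod.fst_add, Prod.snd_add, smul_add, Prod.mk_add_mk, add_add_add_comm]

theorem act_add (γ : G3) (x y : M8) : act γ (x + y) = act γ x + act γ y := by
  simp only [act, Prod.fst_add, Prod.snd_add, tw_add, ← Prod.mk_add_mk]

theorem tw_ten {N : Type*} [AddCommGroup N] [Module (ZMod 2) N] (γ : S3) (i : Fin 3) (x : N) :
    tw γ (ten i x) = ten (γ i) x := by
  have : ∀ (γ : S3) i, cc (γ 0) * cc i + cc (γ 1) * dd i = cc (γ i) ∧ dd (γ 0) * cc i + dd (γ 1) * dd i = dd (γ i) := by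
    decide
  simp only [tw, ten, smul_smul, ← add_smul, this]

theorem tw_smul {N : Type*} [AddCommGroup N] [Module (ZMod 2) N] (γ : S3) (a : ZMod 2) (x : N × N) :
    tw γ (a • x) = a • tw γ x := by
  simp only [tw, Prod.smul_fst, Prod.smul_snd, Prod.smul_mk, smul_add, smul_comm a]

theorem act_P0 (γ : G3) (x : X3) : act γ (P0 x) = P0 (sm γ x) := by
  have h : ∀ (a : ZMod 2) j k, tw γ.2.1 (tw γ.2.2 (a • ten j (ten k (1 : ZMod 2))).1, tw γ.2.2 (a • ten j (ten k 1)).2) =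
      a • ten (γ.2.1 j) (ten (γ.2.2 k) 1) := fun a j k => by
    rw [← tw_ten, ← tw_smul, ← tw_ten]
    simp only [ten, Prod.smul_mk, ← tw_smul]
  simp only [act, P0, sm]
  rw [← tw_ten, ten, h, h]; rfl

/-- the rotation taking `0` to `i` -/
def c3 (i : Fin 3) : S3 := Equiv.addRight i

def sw : S3 := Equiv.swap 1 2
def a1 : G3 := (sw, 1, 1)
def a2 : G3 := (1, sw, 1)
def a3 : G3 := (1, 1, sw)

/-- the stabiliser of the base point -/
def A0 : Subgroup G3 where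
  carrier := {γ | γ.1 0 = 0 ∧ γ.2.1 0 = 0 ∧ γ.2.2 0 = 0}
  mul_mem' := fun h k => ⟨by simp [h.1, k.1], by simp [h.2.1, k.2.1], by simp [h.2.2, k.2.2]⟩
  one_mem' := ⟨rfl, rfl, rfl⟩
  inv_mem' := fun h => ⟨Equiv.Perm.inv_eq_iff_eq.2 h.1.symm, Equiv.Perm.inv_eq_iff_eq.2 h.2.1.symm,
    Equiv.Perm.inv_eq_iff_eq.2 h.2.2.symm⟩

instance : DecidablePred (· ∈ A0) := fun γ => inferInstanceAs (Decidable (γ.1 0 = 0 ∧ γ.2.1 0 = 0 ∧ γ.2.2 0 = 0))

theorem card_A0 : Nat.card A0 = 8 := by rw [Nat.card_eq_fintype_card]; decide +kernel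

def v0 : M8 := P0 0

def Pure (v : M8) : Prop := ∃ x, v = P0 x

instance : DecidablePred Pure := fun v => inferInstanceAs (Decidable (∃ x, v = P0 x))

/-- the second socle layer -/
def E4 : AddSubgroup M8 where
  carrier := {w | w.1.2.2 = 0 ∧ w.2.1.2 = 0 ∧ w.2.2 = 0}
  add_mem' := fun h k => ⟨by simp [h.1, k.1], by simp [h.2.1, k.2.1], by simp [h.2.2, k.2.2]⟩
  zero_mem' := ⟨rfl, rfl, rfl⟩
  neg_mem' := fun h => ⟨by simp [h.1], by simp [h.2.1], by simp [h.2.2]⟩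

instance : DecidablePred (· ∈ E4) := fun w => inferInstanceAs (Decidable (w.1.2.2 = 0 ∧ w.2.1.2 = 0 ∧ w.2.2 = 0))

/-- a line of pure tensors -/
def L2 : AddSubgroup M8 where
  carrier := {w | w.1.1.2 = 0 ∧ w.1.2 = 0 ∧ w.2.1.2 = 0 ∧ w.2.2 = 0}
  add_mem' := fun h k => ⟨by simp [h.1, k.1], by simp [h.2.1, k.2.1], by simp [h.2.2.1, k.2.2.1],
    by simp [h.2.2.2, k.2.2.2]⟩
  zero_mem' := ⟨rfl, rfl, rfl, rfl⟩
  neg_mem' := fun h => ⟨by simp [h.1], by simp [h.2.1], by simp [h.2.2.1], by simp [h.2.2.2]⟩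

instance : DecidablePred (· ∈ L2) := fun w =>
  inferInstanceAs (Decidable (w.1.1.2 = 0 ∧ w.1.2 = 0 ∧ w.2.1.2 = 0 ∧ w.2.2 = 0))

theorem ext_P0 {N : Type*} [AddCommGroup N] {f g : M8 →+ N} (h : ∀ x, f (P0 x) = g (P0 x)) : f = g := by
  have k : ∀ v : M8, v = v.1.1.1.val • P0 (0, 0, 0) + v.1.1.2.val • P0 (0, 0, 1) + v.1.2.1.val • P0 (0, 1, 0) +
      v.1.2.2.val • P0 (0, 1, 1) + v.2.1.1.val • P0 (1, 0, 0) + v.2.1.2.val • P0 (1, 0, 1) +
      v.2.2.1.val • P0 (1, 1, 0) + v.2.2.2.val • P0 (1, 1, 1) := by decide +kernel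
  ext1 v
  rw [k v]
  simp only [map_add, map_nsmul, h]

theorem socle : ∀ v : M8, v ≠ 0 → ∃ l ∈ [a1, a2, a3].sublists, l.foldr (fun a w => w + act a w) v = v0 := by
  decide +kernel

theorem fix_A0 : ∀ v : M8, act a1 v = v → act a2 v = v → act a3 v = v → v = 0 ∨ v = v0 := by decide +kernel

theorem fix_a1 : ∀ v : M8, act a1 v = v ↔ v.2 = 0 := by decide +kernel

theorem soc_E4 : ∀ v : M8, (∀ a ∈ [a1, a2, a3], act a v + v = 0 ∨ act a v + v = v0) → v ∈ E4 := by decide +kernel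

theorem E4_gen : ∀ v ∈ E4, v = v.1.1.1.val • v0 + v.1.1.2.val • (act a2 (P0 (0, 1, 1)) + P0 (0, 1, 1)) +
    v.1.2.1.val • (act a3 (P0 (0, 1, 1)) + P0 (0, 1, 1)) + v.2.1.1.val • (act a3 (P0 (1, 0, 1)) + P0 (1, 0, 1)) := by
  decide +kernel

theorem free_A0 : ∀ γ ∈ A0, γ ≠ 1 → ∀ v : M8, act γ v = v → ∃ u, v = u + act γ u := by decide +kernel

end H80.O8
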